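import Groth.Agent.TorusPts.Bound
import Groth.Agent.GrpSchLib.AffineHopf
import Groth.Agent.EtFound.Descent
import Groth.Prelude.Def_Red

/-!
# Rational points of a torus scheme over a field
-/

universe u

open CategoryTheory CategoryTheory.Limits MonoidalCategory CartesianMonoidalCategory MonObj GrpObj AlgebraicGeometry
open TensorProduct WithConv

noncomputable section

namespace Groth.Agent.TorusPts

open GrpSchLib.AffineHopf

/-- The group algebra isomorphism from an isomorphism of group schemes. -/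
theorem exists_bialgEquiv {R : Type u} [CommRing R] {B C : Type u} [CommRing B] [CommRing C] [HopfAlgebra R B]
    [HopfAlgebra R C] (g : Grp.mk (sp R B) ≅ Grp.mk (sp R C)) : Nonempty (B ≃ₐc[R] C) := by
  haveI := g.hom.hom.isMonHom_hom
  haveI := g.inv.hom.isMonHom_hom
  obtain ⟨f, hf⟩ := exists_bialgHom g.hom.hom.hom
  obtain ⟨f', hf'⟩ := exists_bialgHom g.inv.hom.hom
  have h1 : (f' : B →ₐ[R] C).comp (f : C →ₐ[R] B) = AlgHom.id R C := by
    refine spMap_injective ?_
    rw [spMap_id, ← spMap_comp, ← hf, ← hf']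
    exact congrArg (fun w => w.hom.hom) g.inv_hom_id
  have h2 : (f : C →ₐ[R] B).comp (f' : B →ₐ[R] C) = AlgHom.id R B := by
    refine spMap_injective ?_
    rw [spMap_id, ← spMap_comp, ← hf, ← hf']
    exact congrArg (fun w => w.hom.hom) g.hom_inv_id
  exact ⟨BialgEquiv.ofBijective f' (Function.bijective_iff_has_inverse.mpr
    ⟨f, fun x => DFunLike.congr_fun h2 x, fun x => DFunLike.congr_fun h1 x⟩)⟩

theorem exists_torus_data {K : Type u} [Field K] {n : ℕ} (T : Over (Spec (CommRingCat.of K))) [GrpObj T]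
    (hT : ∃ (L : Type u) (_ : Field L) (_ : Algebra K L),
      Red.IsSplitTorusWith (Fin n → ℤ) (Red.bc (Spec.map (CommRingCat.ofHom (algebraMap K L))) T)) :
    ∃ (A : Type u) (_ : CommRing A) (_ : HopfAlgebra K A) (L : Type u) (_ : Field L) (_ : Algebra K L)
      (_ : FiniteDimensional K L) (_ : IsGalois K L),
      Nonempty (L ⊗[K] A ≃ₐc[L] MonoidAlgebra L (Lat.{u} n)) ∧
      Nonempty ((𝟙_ (Over (Spec (CommRingCat.of K))) ⟶ T) ≃* WithConv (A →ₐ[K] K)) ∧
      ((∀ i : Red.Gm (Spec (CommRingCat.of K)) ⟶ T, IsMonHom i → Mono i → False) →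
        ∀ f : A →ₐc[K] MonoidAlgebra K (Multiplicative ℤ), Function.Surjective f → False) := by
  obtain ⟨L, _, _, ⟨s⟩⟩ := hT
  let φ := Spec.map (CommRingCat.ofHom (algebraMap K L))
  obtain ⟨d⟩ := nonempty_DS_iso L (Fin n → ℤ)
  haveI : IsAffine (pullback T.hom φ) :=
    @IsAffine.of_isIso _ _ ((Over.forget _).mapIso ((Grp.forget _).mapIso (s.trans d.symm))).hom (Iso.isIso_hom _)
      (isAffine_Spec _)
  have hA : IsAffineHom (pullback.snd T.hom φ) := isAffineHom_of_isAffine (pullback.snd T.hom φ)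
  haveI := EtFound.fpqc_isAffineHom.{u}
  haveI : Surjective φ := ⟨fun x => ⟨(IsLocalRing.closedPoint L : Spec (CommRingCat.of L)), Subsingleton.elim _ _⟩⟩
  haveI : Flat φ := by
    rw [Flat.SpecMap_iff]
    show (algebraMap K L).Flat
    rw [RingHom.flat_algebraMap_iff]
    infer_instance
  haveI : IsAffineHom T.hom := MorphismProperty.of_pullback_snd_of_descendsAlong
    (Q := (@Surjective ⊓ @Flat ⊓ @QuasiCompact : MorphismProperty Scheme.{u})) ⟨⟨‹_›, ‹_›⟩, inferInstance⟩ hA
  haveI : IsAffine T.left := isAffine_of_isAffineHom T.hom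
  obtain ⟨A, _, _, ⟨t⟩⟩ := exists_hopf T
  obtain ⟨b⟩ := nonempty_bc_sp (R := K) L A
  let g : Grp.mk (sp L (L ⊗[K] A)) ≅ Grp.mk (sp L (MonoidAlgebra L (Multiplicative (Fin n → ℤ)))) :=
    b.symm.trans (((Over.pullback φ).mapGrp.mapIso t).trans (s.trans d.symm))
  obtain ⟨e₁⟩ := exists_bialgEquiv g
  obtain ⟨L', _, _, _, _, ⟨e⟩⟩ := exists_galois_split L
    (e₁.trans (MonoidAlgebra.domCongrBialgEquiv L L MulEquiv.ulift.symm))
  refine ⟨A, inferInstance, inferInstance, L', inferInstance, inferInstance, inferInstance, inferInstance, ⟨e⟩, ⟨?_⟩,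
    ?_⟩
  · let j : T ≅ sp K A := (Grp.forget _).mapIso t.symm
    haveI : IsMonHom j.hom := t.inv.hom.isMonHom_hom
    let u0 : sp K K ≅ 𝟙_ (Over (Spec (CommRingCat.of K))) :=
      { hom := toUnit _
        inv := Over.homMk (𝟙 _) (by
          show 𝟙 _ ≫ Spec.map (CommRingCat.ofHom (algebraMap K K)) = 𝟙 _
          simp)
        hom_inv_id := by
          ext : 1
          show (toUnit (sp K K)).left ≫ 𝟙 _ = 𝟙 _
          rw [Category.comp_id]
          show Spec.map (CommRingCat.ofHom (algebraMap K K)) = 𝟙 _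
          simp
        inv_hom_id := toUnit_unique _ _ }
    let e₀ : (𝟙_ (Over (Spec (CommRingCat.of K))) ⟶ T) ≃* (sp K K ⟶ sp K A) :=
      { toFun := fun x => u0.hom ≫ x ≫ j.hom
        invFun := fun y => u0.inv ≫ y ≫ j.inv
        left_inv := fun x => by simp
        right_inv := fun y => by simp
        map_mul' := fun x y => by rw [MonObj.mul_comp, MonObj.comp_mul] }
    exact e₀.trans Spec.mapMulEquiv.symm
  · intro haniso f hf
    obtain ⟨a⟩ := nonempty_DS_iso K ℤ
    haveI := a.inv.hom.isMonHom_hom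
    haveI := t.hom.hom.isMonHom_hom
    let i : Red.Gm (Spec (CommRingCat.of K)) ⟶ T :=
      a.inv.hom.hom ≫ spMap (f : A →ₐ[K] MonoidAlgebra K (Multiplicative ℤ)) ≫ t.hom.hom.hom
    haveI : IsClosedImmersion ((Over.forget _).map (spMap (f : A →ₐ[K] MonoidAlgebra K (Multiplicative ℤ)))) :=
      IsClosedImmersion.spec_of_surjective
        (CommRingCat.ofHom (f : A →ₐ[K] MonoidAlgebra K (Multiplicative ℤ)).toRingHom) hf
    haveI : Mono (spMap (f : A →ₐ[K] MonoidAlgebra K (Multiplicative ℤ))) :=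
      (Over.forget _).mono_of_mono_map (inferInstance : Mono ((Over.forget _).map (spMap (f : A →ₐ[K] MonoidAlgebra K (Multiplicative ℤ)))))
    haveI : IsIso a.inv.hom.hom := ((Grp.forget _).mapIso a).isIso_inv
    haveI : IsIso t.hom.hom.hom := ((Grp.forget _).mapIso t).isIso_hom
    exact haniso i inferInstance inferInstance

theorem isOfFinOrder_of_mem {M : Type*} [Group M] (S : Subgroup M) [Finite S] {x : M} (hx : x ∈ S) :
    IsOfFinOrder x :=
  S.subtype.isOfFinOrder (isOfFinOrder_of_finite (⟨x, hx⟩ : S))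

theorem roots_mem_range {K L : Type u} [Field K] [Field L] [Algebra K L] {d : ℕ} (hd : 0 < d)
    (hs : (Polynomial.X ^ d - 1 : Polynomial K).Splits) (z : L) (hz : z ^ d = 1) : ∃ c, algebraMap K L c = z :=
  hs.mem_range_of_isRoot (Polynomial.monic_X_pow_sub_C 1 hd.ne').ne_zero (by simp [hz])

end Groth.Agent.TorusPts
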