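import Groth.Agent.TorusPts.Char
import Mathlib.LinearAlgebra.Matrix.GeneralLinearGroup.Defs
import Mathlib.LinearAlgebra.Matrix.Trace
import Mathlib.LinearAlgebra.Matrix.Determinant.Basic
import Mathlib.RingTheory.RootsOfUnity.PrimitiveRoots
import Mathlib.Algebra.CharP.Lemmas

/-!
# Torsion bounds for the rational points of an anisotropic torus
-/

universe u

open TensorProduct WithConv

noncomputable section

namespace Groth.Agent.TorusPts

variable {n : ℕ}

/-- A vector as a character. -/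
abbrev ofVec (v : Fin n → ℤ) : Lat.{u} n := ULift.up (Multiplicative.ofAdd v)

/-- A character as a vector. -/
abbrev toVec (m : Lat.{u} n) : Fin n → ℤ := Multiplicative.toAdd m.down

/-- Automorphisms of the lattice are linear automorphisms. -/
def toLinEquiv (f : MulAut (Lat.{u} n)) : (Fin n → ℤ) ≃ₗ[ℤ] (Fin n → ℤ) :=
  AddEquiv.toIntLinearEquiv
    { toFun := fun v => toVec (f (ofVec v))
      invFun := fun v => toVec (f.symm (ofVec v))
      left_inv := fun v => congrArg toVec (f.symm_apply_apply (ofVec v))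
      right_inv := fun v => congrArg toVec (f.apply_symm_apply (ofVec v))
      map_add' := fun a b => congrArg toVec (f.map_mul (ofVec a) (ofVec b)) }

theorem toLinEquiv_apply (f : MulAut (Lat.{u} n)) (v : Fin n → ℤ) : toLinEquiv f v = toVec (f (ofVec v)) := rfl

/-- Automorphisms of the lattice as integral matrices. -/
def toGL : MulAut (Lat.{u} n) →* Matrix.GeneralLinearGroup (Fin n) ℤ where
  toFun f := Matrix.GeneralLinearGroup.toLin.symm (LinearMap.GeneralLinearGroup.ofLinearEquiv (toLinEquiv f))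
  map_one' := by
    rw [show LinearMap.GeneralLinearGroup.ofLinearEquiv (toLinEquiv (1 : MulAut (Lat.{u} n))) = 1 from
      Units.ext (LinearMap.ext fun v => rfl), map_one]
  map_mul' f g := by
    rw [← map_mul]
    exact congrArg _ (Units.ext (LinearMap.ext fun v => rfl))

theorem toGL_mulVec (f : MulAut (Lat.{u} n)) (v : Fin n → ℤ) :
    (toGL f : Matrix (Fin n) (Fin n) ℤ).mulVec v = toVec (f (ofVec v)) := by
  have h := Matrix.GeneralLinearGroup.toLin.apply_symm_apply (LinearMap.GeneralLinearGroup.ofLinearEquiv (toLinEquiv f))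
  have h2 := congrArg (fun w : LinearMap.GeneralLinearGroup ℤ (Fin n → ℤ) => (w : (Fin n → ℤ) →ₗ[ℤ] (Fin n → ℤ)) v) h
  exact h2

theorem toGL_injective : Function.Injective (toGL.{u} (n := n)) := fun f g h => by
  ext m : 1
  refine ULift.ext _ _ (Multiplicative.toAdd.injective ?_)
  have := toGL_mulVec f (toVec m)
  rw [h, toGL_mulVec] at this
  exact this.symm

/-- A fixed nontrivial character gives an invariant surjective cocharacter. -/
theorem exists_invariant_cochar {Γ : Type*} [Group Γ] [Finite Γ] (θ : Γ →* MulAut (Lat.{u} n)) (m : Lat.{u} n)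
    (hm : m ≠ 1) (hfix : ∀ σ, θ σ m = m) :
    ∃ ν : Lat.{u} n →* Multiplicative ℤ, Function.Surjective ν ∧ ∀ σ x, ν (θ σ x) = ν x := by
  classical
  cases nonempty_fintype Γ
  obtain ⟨i, hi⟩ : ∃ i, toVec m i ≠ 0 := by
    by_contra! h
    exact hm (ULift.ext _ _ (Multiplicative.toAdd.injective (funext h)))
  let F : Lat.{u} n → ℤ := fun x => ∑ σ : Γ, toVec (θ σ x) i
  have hFmul : ∀ a b, F (a * b) = F a + F b := fun a b => by
    simp only [F, map_mul, ← Finset.sum_add_distrib]
    rfl
  have hFinv : ∀ σ x, F (θ σ x) = F x := fun σ x => by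
    simp only [F, ← MulAut.mul_apply, ← map_mul]
    exact Fintype.sum_equiv (Equiv.mulRight σ) _ _ fun τ => rfl
  have hFm : F m ≠ 0 := by
    simp only [F, hfix, Finset.sum_const, Finset.card_univ, nsmul_eq_mul]
    exact mul_ne_zero (Nat.cast_ne_zero.mpr Fintype.card_ne_zero) hi
  let Fh : Additive (Lat.{u} n) →+ ℤ := AddMonoidHom.mk' (fun x => F x.toMul) fun a b => hFmul _ _
  obtain ⟨d, hd⟩ := Int.subgroup_cyclic Fh.range
  have hdvd : ∀ x, d ∣ F x := fun x => by
    have h1 : F x ∈ Fh.range := ⟨Additive.ofMul x, rfl⟩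
    rw [hd, AddSubgroup.mem_closure_singleton] at h1
    obtain ⟨c, hc⟩ := h1
    exact ⟨c, by rw [← hc, zsmul_eq_mul, mul_comm]; rfl⟩
  have hd0 : d ≠ 0 := by
    rintro rfl
    exact hFm (zero_dvd_iff.mp (hdvd m))
  let ν : Lat.{u} n →* Multiplicative ℤ := MonoidHom.mk' (fun x => Multiplicative.ofAdd (F x / d)) fun a b => by
    rw [hFmul, Int.add_ediv_of_dvd_left (hdvd a)]
    rfl
  refine ⟨ν, fun z => ?_, fun σ x => ?_⟩
  · obtain ⟨x, hx⟩ : Multiplicative.toAdd z * d ∈ Fh.range := by
      rw [hd, AddSubgroup.mem_closure_singleton]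
      exact ⟨Multiplicative.toAdd z, by simp⟩
    refine ⟨x.toMul, ?_⟩
    show Multiplicative.ofAdd (F x.toMul / d) = z
    rw [show F x.toMul = Multiplicative.toAdd z * d from hx, Int.mul_ediv_cancel _ hd0]
    rfl
  · show Multiplicative.ofAdd (F (θ σ x) / d) = Multiplicative.ofAdd (F x / d)
    rw [hFinv]

/-- An invariant character value has order dividing the order of the group. -/
theorem pow_card_eq_one {N : Type*} [CommMonoid N] (H : Subgroup (MulAut (Lat.{u} n))) [Finite H]
    (hnofix : ∀ m : Lat.{u} n, (∀ h ∈ H, h m = m) → m = 1)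
    (χ : Lat.{u} n →* N) (hχ : ∀ h ∈ H, ∀ m, χ (h m) = χ m) (m : Lat.{u} n) : χ m ^ Nat.card H = 1 := by
  classical
  cases nonempty_fintype H
  have h1 : ∏ h : H, (h : MulAut (Lat.{u} n)) m = 1 := by
    refine hnofix _ fun g hg => ?_
    rw [map_prod]
    exact Fintype.prod_equiv (Equiv.mulLeft (⟨g, hg⟩ : H)) _ _ fun τ => rfl
  have h2 := congrArg χ h1
  rw [map_prod, map_one, Finset.prod_congr rfl (fun h _ => hχ h.1 h.2 m), Finset.prod_const, Finset.card_univ] at h2
  rw [Nat.card_eq_fintype_card]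
  exact h2

theorem trace_bound (h : Matrix (Fin 2) (Fin 2) ℤ) (hdet : h.det = 1) {m : ℕ} (hm : 0 < m) (hfin : h ^ m = 1) :
    |h.trace| ≤ 2 ∧ (h.trace = 2 → h = 1) := by
  set t := h.trace with ht
  have hch : h * h = t • h - 1 := by
    rw [Matrix.det_fin_two] at hdet
    ext i j
    fin_cases i <;> fin_cases j <;>
      simp [ht, Matrix.mul_apply, Matrix.trace, Fin.sum_univ_two, -zsmul_eq_mul] <;> linarith
  have hrec : ∀ k, h ^ (k + 2) = t • h ^ (k + 1) - h ^ k := fun k => by
    rw [pow_add, pow_two, hch, mul_sub, mul_one, mul_smul_comm, ← pow_succ]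
  constructor
  · by_contra! hbig
    have hs : ∀ k, 2 ≤ |(h ^ k).trace| ∧ |(h ^ k).trace| < |(h ^ (k + 1)).trace| := by
      intro k
      induction k with
      | zero =>
        refine ⟨by simp, ?_⟩
        simp only [zero_add, pow_one, pow_zero, Matrix.trace_one, Fintype.card_fin]
        simpa using hbig
      | succ k ih =>
        refine ⟨by omega, ?_⟩
        rw [hrec k, Matrix.trace_sub, Matrix.trace_smul, smul_eq_mul]
        have h1 := abs_sub_abs_le_abs_sub (t * (h ^ (k + 1)).trace) ((h ^ k).trace)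
        have h2 : 3 * |(h ^ (k + 1)).trace| ≤ |t * (h ^ (k + 1)).trace| := by
          rw [abs_mul]; nlinarith [abs_nonneg ((h ^ (k + 1)).trace)]
        omega
    obtain ⟨m', rfl⟩ : ∃ m', m = m' + 1 := ⟨m - 1, by omega⟩
    obtain ⟨h1, h2⟩ := hs m'
    rw [hfin] at h2
    simp at h2
    omega
  · intro h2
    have hk : ∀ k : ℕ, h ^ k = (k : ℤ) • (h - 1) + 1 := by
      intro k
      induction k with
      | zero => simp
      | succ k ih =>
        rw [pow_succ, ih, add_mul, one_mul, smul_mul_assoc, sub_mul, one_mul, hch, h2]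
        push_cast
        simp only [smul_sub, add_smul, one_smul, smul_smul]
        module
    have h0 := hk m
    rw [hfin, right_eq_add, smul_eq_zero] at h0
    rcases h0 with h0 | h0
    · omega
    · exact sub_eq_zero.mp h0

theorem exists_exponent_le_of_two {F : Type*} [Field F] (H : Subgroup (MulAut (Lat.{u} 2))) [Finite H]
    (χ : Lat.{u} 2 →* F) (hχ : ∀ h ∈ H, ∀ m, χ (h m) = χ m) (h : MulAut (Lat.{u} 2)) (hh : h ∈ H) (h1 : h ≠ 1)
    (hdet : (toGL h : Matrix (Fin 2) (Fin 2) ℤ).det = 1) (m : Lat.{u} 2) :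
    ∃ j, 0 < j ∧ j ≤ 4 ∧ (j = (2 - (toGL h : Matrix (Fin 2) (Fin 2) ℤ).trace).natAbs) ∧ χ m ^ j = 1 := by
  set M : Matrix (Fin 2) (Fin 2) ℤ := ((toGL h : Matrix.GeneralLinearGroup (Fin 2) ℤ) : Matrix (Fin 2) (Fin 2) ℤ) with hMdef
  obtain ⟨e, he, hpow⟩ := (isOfFinOrder_of_finite (⟨h, hh⟩ : H)).exists_pow_eq_one
  have hfin : M ^ e = 1 := by
    have : toGL h ^ e = 1 := by
      rw [← map_pow, show h ^ e = 1 from congrArg Subtype.val hpow, map_one]
    rw [hMdef, ← Units.val_pow_eq_pow_val, this, Units.val_one]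
  obtain ⟨hb, ht2⟩ := trace_bound M hdet he hfin
  have hne : M.trace ≠ 2 := fun e2 => h1 (toGL_injective (Units.ext (by
    rw [map_one, Units.val_one]; exact ht2 e2)))
  have hM1 : ∀ v, χ (ofVec (M.mulVec v)) = χ (ofVec v) := fun v => by
    rw [hMdef, toGL_mulVec]; exact hχ h hh _
  have hsq : M * M = M.trace • M - 1 := by
    rw [Matrix.det_fin_two] at hdet
    ext i j
    fin_cases i <;> fin_cases j <;>
      simp [Matrix.mul_apply, Matrix.trace, Fin.sum_univ_two, -zsmul_eq_mul] <;> linarith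
  have hx0 : χ m ≠ 0 := ((Group.isUnit m).map χ).ne_zero
  let ψ : (Fin 2 → ℤ) →+ Additive Fˣ := AddMonoidHom.mk' (fun v => Additive.ofMul (χ.toHomUnits (ofVec v)))
    fun a b => congrArg Additive.ofMul (map_mul χ.toHomUnits (ofVec a) (ofVec b))
  have hψ : ∀ v, ψ (M.mulVec v) = ψ v := fun v =>
    congrArg Additive.ofMul (Units.ext (hM1 v))
  have key : (2 - M.trace) • ψ (toVec m) = 0 := by
    have h3 := hψ (M.mulVec (toVec m))
    rw [Matrix.mulVec_mulVec, hsq, Matrix.sub_mulVec, Matrix.one_mulVec, Matrix.smul_mulVec, map_sub, map_zsmul,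
      hψ] at h3
    rw [sub_smul, two_smul]
    linear_combination (norm := abel) -h3
  refine ⟨(2 - M.trace).natAbs, by omega, by rw [abs_le] at hb; omega, rfl, ?_⟩
  have k2 : ((2 - M.trace).natAbs : ℤ) • ψ (toVec m) = 0 := by
    rcases Int.natAbs_eq (2 - M.trace) with h4 | h4
    · rw [← h4]; exact key
    · rw [show ((2 - M.trace).natAbs : ℤ) = -(2 - M.trace) by omega, neg_smul, key, neg_zero]
  rw [natCast_zsmul] at k2
  have k3 := congrArg (fun w : Additive Fˣ => ((Additive.toMul w : Fˣ) : F)) k2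
  simp only [toMul_nsmul, Units.val_pow_eq_pow_val, toMul_zero, Units.val_one] at k3
  exact k3

theorem card_le_two_of_det {H : Subgroup (MulAut (Lat.{u} 2))}
    (hdet : ∀ h ∈ H, (toGL h : Matrix (Fin 2) (Fin 2) ℤ).det = 1 → h = 1) : Nat.card H ≤ 2 := by
  let f : H →* ℤˣ := (Matrix.GeneralLinearGroup.det.comp toGL).comp H.subtype
  have hf : Function.Injective f := (injective_iff_map_eq_one f).mpr fun h hh =>
    Subtype.ext (hdet h.1 h.2 (congrArg Units.val hh))
  refine (Nat.card_le_card_of_injective f hf).trans ?_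
  rw [Nat.card_eq_fintype_card]
  decide

section Points

variable {K : Type u} [Field K] {A : Type u} [CommRing A] [HopfAlgebra K A]
  {L : Type u} [Field L] [Algebra K L] (e : L ⊗[K] A ≃ₐc[L] MonoidAlgebra L (Lat.{u} n))

/-- The image of Galois. -/
abbrev galImage : Subgroup (MulAut (Lat.{u} n)) := (theta e).range

instance [FiniteDimensional K L] : Finite (galImage e) := Finite.of_surjective _ (theta e).rangeRestrict_surjective

theorem eq_one_of_fixed [FiniteDimensional K L] [IsGalois K L]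
    (haniso : ∀ f : A →ₐc[K] MonoidAlgebra K (Multiplicative ℤ), Function.Surjective f → False)
    (m : Lat.{u} n) (hm : ∀ h ∈ galImage e, h m = m) : m = 1 := by
  by_contra hne
  obtain ⟨ν, hν, hinv⟩ := exists_invariant_cochar (theta e) m hne fun σ => hm _ ⟨σ, rfl⟩
  obtain ⟨f, hf⟩ := exists_cochar e ν hν hinv
  exact haniso f hf

theorem chi_invariant {d : ℕ} (hroots : ∀ z : L, z ^ d = 1 → ∃ c, algebraMap K L c = z)
    (x : WithConv (A →ₐ[K] K)) (hx : x ^ d = 1) (h) (hh : h ∈ galImage e) (m : Lat.{u} n) :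
    chi e x (h m) = chi e x m := by
  obtain ⟨σ, rfl⟩ := hh
  exact chi_theta_of_pow e hroots x hx σ m

theorem pow_eq_one_of_chi {x : WithConv (A →ₐ[K] K)} {j : ℕ} (h : ∀ m, chi e x m ^ j = 1) : x ^ j = 1 :=
  chi_injective e (by
    ext m
    rw [map_pow, MonoidHom.pow_apply, map_one, MonoidHom.one_apply, h m])

theorem pow_card_galImage [FiniteDimensional K L] [IsGalois K L]
    (haniso : ∀ f : A →ₐc[K] MonoidAlgebra K (Multiplicative ℤ), Function.Surjective f → False)
    {d : ℕ} (hroots : ∀ z : L, z ^ d = 1 → ∃ c, algebraMap K L c = z)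
    (x : WithConv (A →ₐ[K] K)) (hx : x ^ d = 1) : x ^ Nat.card (galImage e) = 1 :=
  pow_eq_one_of_chi e fun m =>
    pow_card_eq_one (galImage e) (eq_one_of_fixed e haniso) (chi e x) (chi_invariant e hroots x hx) m

theorem chi_ext {x y : WithConv (A →ₐ[K] K)} (h : ∀ i, chi e x (ofVec (Pi.single i 1)) = chi e y (ofVec (Pi.single i 1))) :
    x = y := by
  refine chi_injective e ?_
  let ψ : WithConv (A →ₐ[K] K) → ((Fin n → ℤ) →+ Additive Lˣ) := fun z =>
    AddMonoidHom.mk' (fun v => Additive.ofMul ((chi e z).toHomUnits (ofVec v)))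
      fun a b => congrArg Additive.ofMul (map_mul (chi e z).toHomUnits (ofVec a) (ofVec b))
  have h2 : (ψ x).toIntLinearMap = (ψ y).toIntLinearMap := (Pi.basisFun ℤ (Fin n)).ext fun i => by
    rw [Pi.basisFun_apply]
    exact congrArg Additive.ofMul (Units.ext (h i))
  ext m
  exact congrArg (fun w : Additive Lˣ => ((Additive.toMul w : Lˣ) : L)) (LinearMap.congr_fun h2 (toVec m))

include e in
theorem card_le_pow {N : ℕ} (hN : 0 < N) (G : Subgroup (WithConv (A →ₐ[K] K))) (hG : ∀ x ∈ G, x ^ N = 1) :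
    Nat.card G ≤ N ^ n := by
  classical
  let R := {z : L // z ∈ Polynomial.nthRootsFinset N (1 : L)}
  let f : G → (Fin n → R) := fun x i => ⟨chi e x.1 (ofVec (Pi.single i 1)), by
    rw [Polynomial.mem_nthRootsFinset hN, ← MonoidHom.pow_apply, ← map_pow, hG x.1 x.2, map_one, MonoidHom.one_apply]⟩
  have hf : Function.Injective f := fun x y h =>
    Subtype.ext (chi_ext e fun i => congrArg Subtype.val (congrFun h i))
  refine (Nat.card_le_card_of_injective f hf).trans ?_
  rw [Nat.card_eq_fintype_card, Fintype.card_fun, Fintype.card_fin, Fintype.card_coe]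
  refine Nat.pow_le_pow_left ?_ n
  rw [Polynomial.nthRootsFinset_def]
  exact (Multiset.toFinset_card_le _).trans (Polynomial.card_nthRoots N 1)

theorem orderOf_cast_ne_zero (x : WithConv (A →ₐ[K] K)) (hx : IsOfFinOrder x) (e : L ⊗[K] A ≃ₐc[L] MonoidAlgebra L (Lat.{u} n)) :
    ((orderOf x : ℕ) : K) ≠ 0 := by
  intro h0
  obtain ⟨p, hp⟩ := CharP.exists K
  have hdvd : p ∣ orderOf x := (CharP.cast_eq_zero_iff K p _).mp h0
  rcases CharP.char_is_prime_or_zero K p with hpr | rfl
  · haveI : CharP L p := charP_of_injective_algebraMap (algebraMap K L).injective p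
    haveI := Fact.mk hpr
    obtain ⟨q, hq⟩ := hdvd
    have hq0 : q ≠ 0 := by rintro rfl; rw [mul_zero] at hq; exact hx.orderOf_pos.ne' hq
    have h1 : x ^ q = 1 := pow_eq_one_of_chi e fun m => by
      have h2 : (chi e x m ^ q) ^ p = 1 ^ p := by
        rw [one_pow, ← pow_mul, mul_comm q p, ← hq, ← MonoidHom.pow_apply, ← map_pow, pow_orderOf_eq_one, map_one,
          MonoidHom.one_apply]
      exact frobenius_inj L p h2
    have := Nat.le_of_dvd (Nat.pos_of_ne_zero hq0) (orderOf_dvd_of_pow_eq_one h1)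
    rw [hq] at this
    nlinarith [hpr.two_le, Nat.pos_of_ne_zero hq0]
  · rw [zero_dvd_iff] at hdvd
    exact hx.orderOf_pos.ne' hdvd

end Points

end Groth.Agent.TorusPts
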