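import Groth.Agent.TorusPts.Galois
import Mathlib.FieldTheory.Galois.Basic
import Mathlib.RingTheory.Flat.FaithfullyFlat.Basic
import Mathlib.RingTheory.Bialgebra.Convolution

/-!
# The Galois action on the characters of a torus, invariant cocharacters, and rational points
-/

universe u

open TensorProduct Coalgebra Bialgebra WithConv

noncomputable section

namespace Groth.Agent.TorusPts

open MultTypeLib

variable {K : Type u} [Field K] {A : Type u} [CommRing A] [HopfAlgebra K A] {n : ℕ}
  {L : Type u} [Field L] [Algebra K L] (e : L ⊗[K] A ≃ₐc[L] MonoidAlgebra L (Lat.{u} n))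

/-- The group-like element attached to a character. -/
def ch (m : Lat.{u} n) : L ⊗[K] A := e.symm (MonoidAlgebra.single m 1)

theorem isGroupLike_ch (m : Lat.{u} n) : IsGroupLikeElem L (ch e m) :=
  (isGroupLike_single m).map (e.symm : MonoidAlgebra L (Lat.{u} n) →ₐc[L] L ⊗[K] A)

theorem ch_injective : Function.Injective (ch e) := fun _ _ h =>
  MonoidAlgebra.single_left_injective one_ne_zero (e.symm.injective h)

theorem ch_one : ch e 1 = 1 := by rw [ch, ← MonoidAlgebra.one_def, map_one]

theorem ch_mul (a b : Lat.{u} n) : ch e (a * b) = ch e a * ch e b := by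
  rw [ch, ch, ch, ← map_mul, MonoidAlgebra.single_mul_single, mul_one]

theorem exists_ch {z : L ⊗[K] A} (hz : IsGroupLikeElem L z) : ∃ m, ch e m = z := by
  obtain ⟨m, hm⟩ := MonoidAlgebra.isGroupLikeElem_iff_mem_range_single_one.mp
    (hz.map (e : L ⊗[K] A →ₐc[L] MonoidAlgebra L (Lat.{u} n)))
  exact ⟨m, by rw [ch]; exact (congrArg e.symm hm).trans (e.symm_apply_apply z)⟩

theorem mA_id (z : L ⊗[K] A) : mA A (AlgHom.id K L) z = z :=
  DFunLike.congr_fun Algebra.TensorProduct.map_id z

theorem mA_smul (σ : L →ₐ[K] L) (c : L) (z : L ⊗[K] A) : mA A σ (c • z) = σ c • mA A σ z := by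
  rw [Algebra.smul_def, Algebra.smul_def, map_mul]
  simp [Algebra.TensorProduct.algebraMap_apply]

theorem exists_act (σ : L ≃ₐ[K] L) (m : Lat.{u} n) : ∃ m', ch e m' = mA A (σ : L →ₐ[K] L) (ch e m) :=
  exists_ch e (isGroupLike_mA _ (isGroupLike_ch e m))

/-- The Galois action on a character. -/
def act (σ : L ≃ₐ[K] L) (m : Lat.{u} n) : Lat.{u} n := (exists_act e σ m).choose

theorem ch_act (σ : L ≃ₐ[K] L) (m : Lat.{u} n) : ch e (act e σ m) = mA A (σ : L →ₐ[K] L) (ch e m) :=
  (exists_act e σ m).choose_spec

/-- The Galois action on the character group. -/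
def theta : (L ≃ₐ[K] L) →* MulAut (Lat.{u} n) where
  toFun σ :=
    { toFun := act e σ
      invFun := act e σ.symm
      left_inv := fun m => ch_injective e (by
        rw [ch_act, ch_act, mA_comp, show ((σ.symm : L →ₐ[K] L).comp (σ : L →ₐ[K] L)) = AlgHom.id K L from
          AlgHom.ext fun x => σ.symm_apply_apply x, mA_id])
      right_inv := fun m => ch_injective e (by
        rw [ch_act, ch_act, mA_comp, show ((σ : L →ₐ[K] L).comp (σ.symm : L →ₐ[K] L)) = AlgHom.id K L from
          AlgHom.ext fun x => σ.apply_symm_apply x, mA_id])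
      map_mul' := fun a b => ch_injective e (by rw [ch_act, ch_mul, ch_mul, ch_act, ch_act, map_mul]) }
  map_one' := by
    ext m : 1
    apply ch_injective e
    show ch e (act e 1 m) = ch e m
    rw [ch_act, show ((1 : L ≃ₐ[K] L) : L →ₐ[K] L) = AlgHom.id K L from rfl, mA_id]
  map_mul' σ τ := by
    ext m : 1
    apply ch_injective e
    show ch e (act e (σ * τ) m) = ch e (act e σ (act e τ m))
    rw [ch_act, ch_act, ch_act, mA_comp]
    rfl

theorem theta_ch (σ : L ≃ₐ[K] L) (m : Lat.{u} n) : ch e (theta e σ m) = mA A (σ : L →ₐ[K] L) (ch e m) :=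
  ch_act e σ m

/-- The coordinates of a Galois translate. -/
theorem e_mA (σ : L ≃ₐ[K] L) (z : L ⊗[K] A) :
    e (mA A (σ : L →ₐ[K] L) z) = MonoidAlgebra.mapDomain (theta e σ)
      (MonoidAlgebra.mapRingHom _ (σ : L →+* L) (e z)) := by
  obtain ⟨w, rfl⟩ : ∃ w, e.symm w = z := ⟨e z, e.symm_apply_apply z⟩
  rw [e.apply_symm_apply]
  induction w using MonoidAlgebra.induction_linear with
  | zero => simp
  | add a b ha hb => simp only [map_add, ha, hb, MonoidAlgebra.mapDomain_add]
  | single m r =>
    have h : e.symm (MonoidAlgebra.single m r) = r • ch e m := by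
      rw [ch, ← map_smul, MonoidAlgebra.smul_single', mul_one]
    rw [h, mA_smul, ← theta_ch, map_smul, ch, e.apply_symm_apply]
    simp [MonoidAlgebra.smul_single']

variable [FiniteDimensional K L] [IsGalois K L]

theorem exists_algebraMap_of_fixed (z : L) (hz : ∀ σ : L ≃ₐ[K] L, σ z = z) : ∃ c : K, algebraMap K L c = z :=
  IntermediateField.mem_bot.mp ((IsGalois.mem_bot_iff_fixed z).mpr hz)

/-- An invariant surjective cocharacter gives a one-parameter subgroup. -/
theorem exists_cochar (ν : Lat.{u} n →* Multiplicative ℤ) (hν : Function.Surjective ν)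
    (hinv : ∀ σ m, ν (theta e σ m) = ν m) :
    ∃ f : A →ₐc[K] MonoidAlgebra K (Multiplicative ℤ), Function.Surjective f := by
  classical
  let g : SemiBialgHom K L A (MonoidAlgebra L (Multiplicative ℤ)) :=
    ((SemiBialgHom.ofBialgHom (MonoidAlgebra.mapDomainBialgHom L ν)).comp
      (SemiBialgHom.ofBialgHom (e : L ⊗[K] A →ₐc[L] MonoidAlgebra L (Lat.{u} n)))).comp
      (SemiBialgHom.baseChange K L A)
  have hg : ∀ a, g.toAlgHom a = MonoidAlgebra.mapDomain ν (e (1 ⊗ₜ a)) := fun a => rfl
  let ι : MonoidAlgebra K (Multiplicative ℤ) →ₐ[K] MonoidAlgebra L (Multiplicative ℤ) :=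
    MonoidAlgebra.mapAlgHom _ (Algebra.ofId K L)
  have hι : Function.Injective ι := fun x y h => by
    refine MonoidAlgebra.coeff_injective (Finsupp.ext fun j => (algebraMap K L).injective ?_)
    have := congrArg (fun w => w.coeff j) h
    simpa [ι] using this
  have hfix : ∀ a, g.toAlgHom a ∈ ι.range := by
    intro a
    have hσ : ∀ σ : L ≃ₐ[K] L, MonoidAlgebra.mapRingHom _ (σ : L →+* L) (g.toAlgHom a) = g.toAlgHom a := by
      intro σ
      have h1 : e (mA A (σ : L →ₐ[K] L) ((1 : L) ⊗ₜ a)) = e (1 ⊗ₜ a) := by simp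
      rw [e_mA] at h1
      conv_rhs => rw [hg, ← h1]
      rw [hg]
      generalize e (1 ⊗ₜ[K] a) = w
      induction w using MonoidAlgebra.induction_linear with
      | zero => simp
      | add p q hp hq => simp only [map_add, MonoidAlgebra.mapDomain_add, hp, hq]
      | single m r => simp [hinv]
    choose c hc using fun j => exists_algebraMap_of_fixed (K := K) ((g.toAlgHom a).coeff j) fun σ => by
      conv_rhs => rw [← hσ σ]
      simp
    refine ⟨∑ j ∈ (g.toAlgHom a).coeff.support, MonoidAlgebra.single j (c j), ?_⟩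
    show ι (∑ j ∈ _, _) = g.toAlgHom a
    rw [map_sum]
    conv_rhs => rw [← MonoidAlgebra.sum_coeff_single (g.toAlgHom a), Finsupp.sum]
    exact Finset.sum_congr rfl fun j _ => by simp [ι, hc]
  let c₀ : A →ₐ[K] MonoidAlgebra K (Multiplicative ℤ) :=
    ((AlgEquiv.ofInjective ι hι).symm : _ →ₐ[K] _).comp (g.toAlgHom.codRestrict ι.range hfix)
  have hc₀ : ∀ a, ι (c₀ a) = g.toAlgHom a := fun a => by
    show ((AlgEquiv.ofInjective ι hι) ((AlgEquiv.ofInjective ι hι).symm _) : MonoidAlgebra L (Multiplicative ℤ)) = _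
    rw [AlgEquiv.apply_symm_apply]
    rfl
  have hcounit : ∀ a, counit (R := K) (c₀ a) = counit (R := K) a := fun a => by
    apply (algebraMap K L).injective
    rw [← g.counit_comp, ← hc₀]
    generalize c₀ a = w
    induction w using MonoidAlgebra.induction_linear with
    | zero => simp
    | add p q hp hq => simp only [map_add, hp, hq]
    | single m r => simp [ι]
  have hsq : Function.Injective (sq L ι) := by
    let B := (MonoidAlgebra.basis (Multiplicative ℤ) K).tensorProduct (MonoidAlgebra.basis (Multiplicative ℤ) K)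
    let B' := (MonoidAlgebra.basis (Multiplicative ℤ) L).tensorProduct (MonoidAlgebra.basis (Multiplicative ℤ) L)
    have hB : (sq L ι).toLinearMap = Finsupp.linearCombination K B' ∘ₗ B.repr.toLinearMap := B.ext fun p => by
      rw [LinearMap.comp_apply, LinearEquiv.coe_coe, Module.Basis.repr_self, Finsupp.linearCombination_single, one_smul]
      simp only [B, B', AlgHom.toLinearMap_apply, Module.Basis.tensorProduct_apply', MonoidAlgebra.basis_apply, sq_tmul]
      simp [ι]
    rw [← AlgHom.coe_toLinearMap, hB, LinearMap.coe_comp]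
    exact ((B'.linearIndependent.restrict_scalars (smul_left_injective K one_ne_zero)).finsuppLinearCombination_injective).comp
      B.repr.injective
  have hcomul : ∀ a, comul (R := K) (c₀ a) = Algebra.TensorProduct.map c₀ c₀ (comul (R := K) a) := fun a => by
    apply hsq
    have e1 : ∀ w : MonoidAlgebra K (Multiplicative ℤ), sq L ι (comul (R := K) w) = comul (R := L) (ι w) := fun w => by
      induction w using MonoidAlgebra.induction_linear with
      | zero => simp
      | add p q hp hq => simp only [map_add, hp, hq]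
      | single m r => simp [ι]
    have e2 : ∀ w : A ⊗[K] A, sq L ι (Algebra.TensorProduct.map c₀ c₀ w) = sq L g.toAlgHom w := fun w => by
      induction w using TensorProduct.induction_on with
      | zero => simp
      | add p q hp hq => simp only [map_add, hp, hq]
      | tmul p q => simp [hc₀]
    rw [e1, e2, hc₀, g.comul_comp]
  refine ⟨BialgHom.ofAlgHom c₀ (AlgHom.ext hcounit) (AlgHom.ext fun a => (hcomul a).symm), ?_⟩
  show Function.Surjective c₀.toLinearMap
  rw [← Module.FaithfullyFlat.lTensor_surjective_iff_surjective K L]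
  let u : L ⊗[K] MonoidAlgebra K (Multiplicative ℤ) →ₗ[L] MonoidAlgebra L (Multiplicative ℤ) :=
    (MonoidAlgebra.scalarTensorEquiv K L).toLinearMap
  have hu : ∀ (l : L) x, u (l ⊗ₜ x) = l • ι x := fun l x => by
    induction x using MonoidAlgebra.induction_linear with
    | zero => simp
    | add p q hp hq => simp only [TensorProduct.tmul_add, map_add, smul_add, hp, hq]
    | single m r => simp [u, ι, Algebra.smul_def, mul_comm]
  have hcomp : ∀ z : L ⊗[K] A, u (c₀.toLinearMap.lTensor L z) = MonoidAlgebra.mapDomain ν (e z) := by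
    intro z
    induction z using TensorProduct.induction_on with
    | zero => simp
    | add p q hp hq => simp only [map_add, MonoidAlgebra.mapDomain_add, hp, hq]
    | tmul l a =>
      rw [LinearMap.lTensor_tmul, hu, AlgHom.toLinearMap_apply, hc₀, hg,
        show l ⊗ₜ[K] a = l • ((1 : L) ⊗ₜ[K] a) by simp [TensorProduct.smul_tmul'], map_smul,
        MonoidAlgebra.mapDomain_smul]
  intro y
  obtain ⟨w, hw⟩ : ∃ w, MonoidAlgebra.mapDomain ν w = u y := by
    generalize u y = v
    induction v using MonoidAlgebra.induction_linear with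
    | zero => exact ⟨0, by simp⟩
    | add p q hp hq => obtain ⟨a, rfl⟩ := hp; obtain ⟨b, rfl⟩ := hq; exact ⟨a + b, MonoidAlgebra.mapDomain_add ..⟩
    | single m r => obtain ⟨a, rfl⟩ := hν m; exact ⟨.single a r, MonoidAlgebra.mapDomain_single⟩
  exact ⟨e.symm w, (MonoidAlgebra.scalarTensorEquiv K L).injective (by
    show u _ = u y
    rw [hcomp, e.apply_symm_apply, hw])⟩

omit [FiniteDimensional K L] [IsGalois K L]

/-- A rational point as a point over the extension. -/
def ptL (x : WithConv (A →ₐ[K] K)) : L ⊗[K] A →ₐ[L] L :=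
  Algebra.TensorProduct.lift (AlgHom.id L L) ((Algebra.ofId K L).comp x.ofConv) fun _ _ => .all _ _

theorem ptL_tmul (x : WithConv (A →ₐ[K] K)) (l : L) (a : A) : ptL x (l ⊗ₜ a) = l * algebraMap K L (x.ofConv a) := by
  simp [ptL]

theorem ptL_mul_of_groupLike (x y : WithConv (A →ₐ[K] K)) {z : L ⊗[K] A} (hz : IsGroupLikeElem L z) :
    ptL (x * y) z = ptL x z * ptL y z := by
  have key : ∀ w, (toConv (ptL (L := L) x) * toConv (ptL y)).ofConv w = ptL (x * y) w := by
    intro w
    induction w using TensorProduct.induction_on with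
    | zero => simp
    | add p q hp hq => simp only [map_add, hp, hq]
    | tmul l a =>
      have hc := (SemiBialgHom.baseChange K L A).comul_comp a
      simp only [SemiBialgHom.baseChange, Algebra.TensorProduct.includeRight_apply] at hc
      rw [show l ⊗ₜ[K] a = l • ((1 : L) ⊗ₜ[K] a) by simp [TensorProduct.smul_tmul'], map_smul, map_smul, ptL_tmul,
        one_mul, AlgHom.convMul_apply, AlgHom.convMul_apply, hc]
      congr 1
      generalize comul (R := K) a = v
      induction v using TensorProduct.induction_on with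
      | zero => simp
      | add p q hp hq => simp only [map_add, hp, hq]
      | tmul p q => simp [ptL_tmul]
  rw [← key, AlgHom.convMul_apply, hz.comul_eq_tmul_self]
  simp

theorem ptL_one (z : L ⊗[K] A) : ptL (1 : WithConv (A →ₐ[K] K)) z = counit (R := L) z := by
  induction z using TensorProduct.induction_on with
  | zero => simp
  | add p q hp hq => simp only [map_add, hp, hq]
  | tmul l a => simp [ptL_tmul, Algebra.smul_def, mul_comm]

/-- The values of a rational point on the characters. -/
def chi : WithConv (A →ₐ[K] K) →* (Lat.{u} n →* L) where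
  toFun x :=
    { toFun := fun m => ptL x (ch e m)
      map_one' := by rw [ch_one, map_one]
      map_mul' := fun a b => by rw [ch_mul, map_mul] }
  map_one' := by
    ext m
    show ptL 1 (ch e m) = 1
    rw [ptL_one, (isGroupLike_ch e m).counit_eq_one]
  map_mul' x y := by
    ext m
    exact ptL_mul_of_groupLike x y (isGroupLike_ch e m)

theorem chi_apply (x : WithConv (A →ₐ[K] K)) (m : Lat.{u} n) : chi e x m = ptL x (ch e m) := rfl

theorem chi_injective : Function.Injective (chi e) := by
  intro x y h
  refine WithConv.ext (AlgHom.ext fun a => (algebraMap K L).injective ?_)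
  have h2 : (ptL x).comp (e.symm : MonoidAlgebra L (Lat.{u} n) →ₐ[L] L ⊗[K] A) =
      (ptL y).comp (e.symm : MonoidAlgebra L (Lat.{u} n) →ₐ[L] L ⊗[K] A) :=
    MonoidAlgebra.algHom_ext (fun m => DFunLike.congr_fun h m) (by ext)
  have h3 := DFunLike.congr_fun h2 (e (1 ⊗ₜ a))
  simpa [ptL_tmul] using h3

theorem chi_theta (x : WithConv (A →ₐ[K] K)) (σ : L ≃ₐ[K] L) (m : Lat.{u} n) :
    chi e x (theta e σ m) = σ (chi e x m) := by
  rw [chi_apply, chi_apply, theta_ch]
  generalize ch e m = z
  induction z using TensorProduct.induction_on with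
  | zero => simp
  | add p q hp hq => simp only [map_add, hp, hq]
  | tmul l a => simp [ptL_tmul]

/-- A point killed by d takes invariant values when the d-th roots of unity are rational. -/
theorem chi_theta_of_pow {d : ℕ} (hroots : ∀ z : L, z ^ d = 1 → ∃ c, algebraMap K L c = z)
    (x : WithConv (A →ₐ[K] K)) (hx : x ^ d = 1) (σ : L ≃ₐ[K] L) (m : Lat.{u} n) :
    chi e x (theta e σ m) = chi e x m := by
  obtain ⟨c, hc⟩ := hroots (chi e x m) (by
    rw [← MonoidHom.pow_apply, ← map_pow, hx, map_one, MonoidHom.one_apply])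
  rw [chi_theta, ← hc, AlgEquiv.commutes]

end Groth.Agent.TorusPts
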