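import Groth.Agent.MultTypeLib.Field
import Groth.Agent.MultTypeLib.TorusFibre
import Mathlib.FieldTheory.Galois.Basic
import Mathlib.FieldTheory.Normal.Closure
import Mathlib.RingTheory.Finiteness.Descent

/-!
# A torus over a field splits over a finite Galois extension
-/

universe u

open TensorProduct Coalgebra Bialgebra

noncomputable section

namespace Groth.Agent.TorusPts

open MultTypeLib

/-- The character lattice of rank n. -/
abbrev Lat (n : ℕ) : Type u := ULift.{u} (Multiplicative (Fin n → ℤ))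

theorem exists_galois_split {K : Type u} [Field K] {A : Type u} [CommRing A] [HopfAlgebra K A] {n : ℕ}
    (L₀ : Type u) [Field L₀] [Algebra K L₀] (e₀ : L₀ ⊗[K] A ≃ₐc[L₀] MonoidAlgebra L₀ (Lat.{u} n)) :
    ∃ (L : Type u) (_ : Field L) (_ : Algebra K L), FiniteDimensional K L ∧ IsGalois K L ∧
      Nonempty (L ⊗[K] A ≃ₐc[L] MonoidAlgebra L (Lat.{u} n)) := by
  have hd : SGA3b.IsDiag L₀ (L₀ ⊗[K] A) := ⟨_, inferInstance, ⟨e₀⟩⟩
  have hm : SGA3b.IsMultType K A := isMultType_of_ff L₀ hd
  haveI : Group.FG (Lat.{u} n) := by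
    haveI : AddGroup.FG (Fin n → ℤ) := Module.Finite.iff_addGroup_fg.mp inferInstance
    haveI : Group.FG (Multiplicative (Fin n → ℤ)) := inferInstance
    exact Group.fg_of_surjective (f := (MulEquiv.ulift.symm : Multiplicative (Fin n → ℤ) ≃* Lat.{u} n).toMonoidHom)
      (MulEquiv.surjective _)
  haveI : Algebra.FiniteType L₀ (L₀ ⊗[K] A) :=
    Algebra.FiniteType.equiv (inferInstance : Algebra.FiniteType L₀ (MonoidAlgebra L₀ (Lat.{u} n)))
      (e₀.symm : MonoidAlgebra L₀ (Lat.{u} n) ≃ₐ[L₀] L₀ ⊗[K] A)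
  have hft : Algebra.FiniteType K A := Algebra.FiniteType.of_finiteType_tensorProduct_of_faithfullyFlat L₀
  obtain ⟨k', _, _, hk', hs, M', _, -, ⟨e'⟩⟩ := isotrivial_of_field K A hft hm
  let P : Split K A := splitOfEquiv k' e'
  let Q : Split K A := splitOfEquiv L₀ e₀
  haveI : Nontrivial (P.S ⊗[K] Q.S) := by
    show Nontrivial (k' ⊗[K] L₀)
    infer_instance
  obtain ⟨θ⟩ : Nonempty (M' ≃* Lat.{u} n) := P.exists_mulEquiv Q inferInstance
  haveI : Algebra.IsAlgebraic K (AlgebraicClosure k') := Algebra.IsAlgebraic.trans K k' (AlgebraicClosure k')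
  haveI : IsAlgClosure K (AlgebraicClosure k') := ⟨inferInstance, inferInstance⟩
  haveI : Normal K (AlgebraicClosure k') := IsAlgClosure.normal K _
  let L := IntermediateField.normalClosure K k' (AlgebraicClosure k')
  letI : Algebra P.S L := (inferInstance : Algebra k' L)
  haveI : IsScalarTower K P.S L := (inferInstance : IsScalarTower K k' L)
  let E : L ⊗[K] A ≃ₐc[L] MonoidAlgebra L M' := (P.homOver L).toBialgEquiv (P.extend_homOver_bijective L)
  haveI : Algebra.IsSeparable K L := by
    rw [← le_separableClosure_iff]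
    show (⨆ f : k' →ₐ[K] AlgebraicClosure k', f.fieldRange) ≤ _
    refine iSup_le fun f => ?_
    rw [le_separableClosure_iff]
    exact AlgEquiv.Algebra.isSeparable (AlgEquiv.ofInjectiveField f)
  exact ⟨L, inferInstance, inferInstance, inferInstance, isGalois_iff.mpr ⟨inferInstance, inferInstance⟩,
    ⟨E.trans (MonoidAlgebra.domCongrBialgEquiv L L θ)⟩⟩

end Groth.Agent.TorusPts
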